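import Cfsg.Agent.H443.PC.Defs
import Cfsg.Agent.FixBN.SplitRGD
import Cfsg.Agent.FixBN.OfBN
import Cfsg.Agent.Nodes.RGDLib
import Cfsg.Agent.Tits.OfBN

/-!
# S3876, row_char, P3a: rank one triangles of a root group datum of characteristic two

* `eq_one_of_neg_of_B` : `X (-α_i) ∩ B = 1`
* `uniq` : uniqueness of expression in `X_i (T n_i) X_i`
* `ntri_of_exp` : a node whose root group has exponent two is `NTri`
* `pair_of_hasTri` : the `(B, N)`-pair of a simple group with `HasTri`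
-/

set_option autoImplicit false
set_option linter.unusedSectionVars false

namespace Cfsg.Agent.H443.PC

open Cfsg Cfsg.Agent.Tits.Core
open CoxeterSystem Cfsg.Agent.ChevalleyStructure.CoxeterGeom Cfsg.Agent.Tits.Roots
  Cfsg.Agent.Tits.RootComb Cfsg.Agent.Nodes.Comb Cfsg.Agent.Nodes.Reps Cfsg.Agent.Nodes.BNOf Cfsg.Agent.FixBN

variable {I W Y : Type*} [Fintype I] [DecidableEq I] [Group W] [Group Y] {M : CoxeterMatrix I}
  {cs : CoxeterSystem M W} {A : I → I → ℤ} {h : IsCartan M A} {p : ℕ} {T : Subgroup Y} {n : I → Y}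
  {X : (I → ℤ) → Subgroup Y}

/-- A representative of a simple reflection is not in `B`. -/
theorem not_mem_B_of_rp [Finite W] (R : RGD cs h p T n X) {i : I} {m : Y} (hm : Rp cs R.nsys (cs.simple i) m) :
    m ∉ RGD.B cs h T X := by
  intro hB
  have h1 := R.eq_one_of_mem_B hm hB
  have h2 := cs.length_simple i
  rw [h1, cs.length_one] at h2
  exact absurd h2 (by decide)

/-- `X (-α_i) ∩ B = 1`. -/
theorem eq_one_of_neg_of_B [Finite W] (R : RGD cs h p T n X) {i : I} {x : Y} (hx : x ∈ X (-sr i))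
    (hB : x ∈ RGD.B cs h T X) : x = 1 := by
  by_contra h1
  obtain ⟨a, ha, t, ht, b, hb, e⟩ := R.rk1 i x hx h1
  apply not_mem_B_of_rp R (rp_simple cs R.nsys i)
  have hXB : X (sr i) ≤ RGD.B cs h T X := RGD.X_le_B (isRoot_sr cs h i) (sr_nonneg i)
  have e' : n i = t⁻¹ * a⁻¹ * x * b⁻¹ := by rw [e]; group
  rw [e']
  exact mul_mem (mul_mem (mul_mem (inv_mem (RGD.T_le_B ht)) (inv_mem (hXB ha))) hB) (inv_mem (hXB hb))

/-- An element of `X α_i ∩ T` is trivial. -/
theorem eq_one_of_mem_T [Finite W] (R : RGD cs h p T n X) {i : I} {x : Y} (hx : x ∈ X (sr i))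
    (hT : x ∈ T) : x = 1 := by
  obtain ⟨k, hk⟩ := R.pgrp i ⟨x, hx⟩
  have h1 : orderOf x ∣ p ^ k := by
    apply orderOf_dvd_of_pow_eq_one
    have := congrArg Subtype.val hk
    rwa [SubgroupClass.coe_pow] at this
  have h2 : orderOf x ∣ Nat.card T := by
    apply orderOf_dvd_of_pow_eq_one
    have h3 : (⟨x, hT⟩ : ↥T) ^ Nat.card T = 1 := pow_card_eq_one'
    have := congrArg Subtype.val h3
    rwa [SubgroupClass.coe_pow] at this
  have hc : (p ^ k).Coprime (Nat.card T) := Nat.Coprime.pow_left k R.tcop.symm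
  exact orderOf_eq_one_iff.1 (Nat.dvd_one.1 (hc ▸ Nat.dvd_gcd h1 h2))

/-- Conjugation by a representative of `s_i`. -/
theorem conj_neg (R : RGD cs h p T n X) {i : I} {m x : Y} (hm : Rp cs R.nsys (cs.simple i) m) (hx : x ∈ X (sr i)) :
    m * x * m⁻¹ ∈ X (-sr i) := by
  have := R.conj_mem hm (isRoot_sr cs h i) hx
  rwa [rep_simple_sr] at this

theorem conj_neg' (R : RGD cs h p T n X) {i : I} {m x : Y} (hm : Rp cs R.nsys (cs.simple i) m) (hx : x ∈ X (sr i)) :
    m⁻¹ * x * m ∈ X (-sr i) := by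
  have := R.conj_mem' hm (isRoot_sr cs h i) hx
  rwa [inv_simple, rep_simple_sr] at this

theorem conj_pos (R : RGD cs h p T n X) {i : I} {m x : Y} (hm : Rp cs R.nsys (cs.simple i) m) (hx : x ∈ X (-sr i)) :
    m * x * m⁻¹ ∈ X (sr i) := by
  have := R.conj_mem hm (isRoot_sr cs h i).neg hx
  rwa [map_neg, rep_simple_sr, neg_neg] at this

theorem conj_pos' (R : RGD cs h p T n X) {i : I} {m x : Y} (hm : Rp cs R.nsys (cs.simple i) m) (hx : x ∈ X (-sr i)) :
    m⁻¹ * x * m ∈ X (sr i) := by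
  have := R.conj_mem' hm (isRoot_sr cs h i).neg hx
  rwa [inv_simple, map_neg, rep_simple_sr, neg_neg] at this

/-- Uniqueness of expression in `X_i (T n_i) X_i`. -/
theorem uniq [Finite W] (R : RGD cs h p T n X) {i : I} {a b m a' b' m' : Y} (ha : a ∈ X (sr i)) (hb : b ∈ X (sr i))
    (hm : Rp cs R.nsys (cs.simple i) m) (ha' : a' ∈ X (sr i)) (hb' : b' ∈ X (sr i))
    (hm' : Rp cs R.nsys (cs.simple i) m') (e : a * m * b = a' * m' * b') : a = a' ∧ b = b' := by
  have hT : m * m'⁻¹ ∈ T := by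
    have := (hm.mul hm'.inv)
    rw [inv_simple, cs.simple_mul_simple_self] at this
    exact this.mem_of_one
  have hx := conj_neg R hm (mul_mem hb (inv_mem hb'))
  have e1 : m * (b * b'⁻¹) * m⁻¹ = a⁻¹ * a' * (m * m'⁻¹)⁻¹ := by
    have : m * (b * b'⁻¹) * m⁻¹ = a⁻¹ * (a * m * b) * b'⁻¹ * m⁻¹ := by group
    rw [this, e]; group
  have hXB : X (sr i) ≤ RGD.B cs h T X := RGD.X_le_B (isRoot_sr cs h i) (sr_nonneg i)
  have hxB : m * (b * b'⁻¹) * m⁻¹ ∈ RGD.B cs h T X := by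
    rw [e1]
    exact mul_mem (mul_mem (inv_mem (hXB ha)) (hXB ha')) (inv_mem (RGD.T_le_B hT))
  have hx1 := eq_one_of_neg_of_B R hx hxB
  have hb1 : b = b' := by
    have h1 : b * b'⁻¹ = 1 := by
      have : b * b'⁻¹ = m⁻¹ * (m * (b * b'⁻¹) * m⁻¹) * m := by group
      rw [this, hx1]; group
    exact mul_inv_eq_one.1 h1
  refine ⟨?_, hb1⟩
  rw [hx1] at e1
  have h2 : a⁻¹ * a' = m * m'⁻¹ := (mul_inv_eq_one.1 e1.symm)
  have h3 := eq_one_of_mem_T R (mul_mem (inv_mem ha) ha') (h2 ▸ hT)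
  exact inv_mul_eq_one.1 h3

/-- **Rank one triangles**: a node whose root group has exponent two is `NTri`. -/
theorem ntri_of_exp [Finite W] [Finite Y] (R : RGD cs h 2 T n X) {i : I} (h2 : ∀ x ∈ X (sr i), x * x = 1) :
    NTri X i := by
  -- a nontrivial element of `X (-α_i)`
  obtain ⟨u, hu, hu1⟩ : ∃ u ∈ X (-sr i), u ≠ 1 := by
    by_contra hcon
    push Not at hcon
    exact R.not_neg_le_B i fun x hx => by rw [hcon x hx]; exact one_mem _
  have hn := rp_simple cs R.nsys i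
  have h2' : ∀ x ∈ X (-sr i), x * x = 1 := by
    intro x hx
    have h3 := h2 _ (conj_pos' R hn hx)
    have h4 : x * x = n i * ((n i)⁻¹ * x * n i * ((n i)⁻¹ * x * n i)) * (n i)⁻¹ := by group
    rw [h4, h3]; group
  have hinv : ∀ x ∈ X (sr i), x⁻¹ = x := fun x hx => inv_eq_of_mul_eq_one_left (h2 x hx)
  have hinv' : ∀ x ∈ X (-sr i), x⁻¹ = x := fun x hx => inv_eq_of_mul_eq_one_left (h2' x hx)
  obtain ⟨a, ha, t, ht, b, hb, e⟩ := R.rk1 i u hu hu1
  obtain ⟨m, hm⟩ : ∃ m, m = t * n i := ⟨_, rfl⟩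
  have hmR : Rp cs R.nsys (cs.simple i) m := by
    have := (rp_of_mem (cs := cs) (hN := R.nsys) ht).mul hn
    rwa [one_mul, ← hm] at this
  have hmR' : Rp cs R.nsys (cs.simple i) m⁻¹ := by
    have := hmR.inv
    rwa [inv_simple] at this
  have e1 : u = a * m * b := by rw [e, hm]; group
  have e2 : u = b * m⁻¹ * a := by
    rw [← hinv' u hu, e1, mul_inv_rev, mul_inv_rev, hinv a ha, hinv b hb]; group
  obtain ⟨hab, -⟩ := uniq R ha hb hmR hb ha hmR' (e1.symm.trans e2)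
  subst hab
  have hmm : m⁻¹ = m := by
    have h3 : a * m * a = a * m⁻¹ * a := e1.symm.trans e2
    exact (mul_left_cancel (mul_right_cancel h3)).symm
  have hmm' : m * m = 1 := by
    nth_rewrite 1 [← hmm]
    exact inv_mul_cancel m
  have haa := h2 a ha
  -- the second element
  have hu' : m * a * m ∈ X (-sr i) := by
    have := conj_neg R hmR ha
    rwa [hmm] at this
  have hc : m * u * m ∈ X (sr i) := by
    have := conj_pos R hmR hu
    rwa [hmm] at this
  have e3 : m * a * m = (m * u * m) * m * a := by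
    rw [e1]
    calc m * a * m = m * a * m * (a * a) * 1 := by rw [haa]; group
      _ = m * (a * m * a) * 1 * a := by group
      _ = m * (a * m * a) * (m * m) * a := by rw [hmm']
      _ = m * (a * m * a) * m * m * a := by group
  have e4 : m * a * m = a * m * (m * u * m) := by
    have h3 := hinv' _ hu'
    rw [← h3]
    nth_rewrite 1 [e3]
    rw [mul_inv_rev, mul_inv_rev, hinv a ha, hinv _ hc, hmm]; group
  obtain ⟨hca, -⟩ := uniq R hc ha hmR ha hc hmR (e3.symm.trans e4)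
  have e5 : m * a * m = u := by rw [e3, hca, ← e1]
  have ha1 : a ≠ 1 := by
    rintro rfl
    apply hu1
    rw [← e5, mul_one, hmm']
  refine ⟨a, ha, u, hu, ha1, hu1, haa, h2' u hu, ?_⟩
  have e6 : a * u = m * a := by
    rw [e1]
    calc a * (a * m * a) = (a * a) * m * a := by group
      _ = m * a := by rw [haa, one_mul]
  calc a * u * a * u * a * u = (a * u) * (a * u) * (a * u) := by group
    _ = (m * a) * (m * a) * (m * a) := by rw [e6]
    _ = (m * a * m) * (a * m * a) := by group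
    _ = u * u := by rw [e5, ← e1]
    _ = 1 := h2' u hu

/-- **The `(B, N)`-pair** of a simple group with `HasTri`. -/
theorem pair_of_hasTri {Y : Type*} [Group Y] [Finite Y] [IsSimpleGroup Y] (h : HasTri Y) :
    ∃ (P : Cfsg.BNPair Y) (U : Subgroup Y), P.S.Nonempty ∧ Split P 2 U ∧ ∀ s ∈ P.S, TriB P s := by
  obtain ⟨l, M, A, hC, T, n, X, ⟨i, -, -⟩, hW, R, hX, htri⟩ := h
  have hgen : RGD.B M.toCoxeterSystem hC T X ⊔ NN M.toCoxeterSystem R.nsys = ⊤ := by
    rw [eq_top_iff, ← hX]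
    exact Nodes.RGDLib.rgd_G1_le R
  have hne : (R.bnPair hgen).S.Nonempty := ⟨n i, i, rfl⟩
  have hs := SplitRGD.split_of_rgd Nat.prime_two R hgen
    (Cfsg.Agent.Tits.OfBN.normalCore_eq_bot (R.bnPair hgen) hne)
  refine ⟨R.bnPair hgen, _, hne, hs, ?_⟩
  rintro _ ⟨j, rfl⟩
  obtain ⟨u, hu, v, hv, hu1, hv1, huu, hvv, huv⟩ := htri j
  have hn := rp_simple M.toCoxeterSystem R.nsys j
  have hXB : X (sr j) ≤ RGD.B M.toCoxeterSystem hC T X :=
    RGD.X_le_B (isRoot_sr M.toCoxeterSystem hC j) (sr_nonneg j)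
  refine ⟨u, v, hXB hu, ?_, ?_, hXB (conj_pos' R hn hv), huu, hvv, huv⟩
  · intro hB
    have h1 := eq_one_of_neg_of_B R (conj_neg' R hn hu) hB
    apply hu1
    have h2 : u = n j * ((n j)⁻¹ * u * n j) * (n j)⁻¹ := by group
    rw [h2, h1]; group
  · intro hB
    exact hv1 (eq_one_of_neg_of_B R hv hB)

end Cfsg.Agent.H443.PC
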